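import Cfsg.Agent.S0732
import Cfsg.Agent.Lib.SmallOrder
import Mathlib

/-!
Transitive groups of degree `18` in which a point stabilizer normalizes a subgroup of order `17`:
the two possibilities and their Sylow numbers.
-/

set_option autoImplicit false
set_option linter.style.haveILetI false

namespace CfsgLib.SylowNumbers18

open MulAction
open scoped Pointwise

/-- Iterated conjugation by an element acting as a power map. -/
theorem conj_pow_eq {G : Type*} [Group G] {v h : G} {k : ℕ} (hk : v * h * v⁻¹ = h ^ k) (j : ℕ) :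
    v ^ j * h * (v ^ j)⁻¹ = h ^ (k ^ j) := by
  induction j with
  | zero => simp
  | succ j ih =>
    rw [show v ^ (j + 1) * h * (v ^ (j + 1))⁻¹ = v * (v ^ j * h * (v ^ j)⁻¹) * v⁻¹ by
      rw [pow_succ']; group, ih, ← conj_pow, hk, ← pow_mul, pow_succ']

/-- Powers of an element agree iff the exponents agree modulo its order. -/
theorem pow_eq_iff_cast {G : Type*} [Group G] [Finite G] {h : G} {n : ℕ} (hn : orderOf h = n) (a b : ℕ) :
    h ^ a = h ^ b ↔ (a : ZMod n) = b := by
  rw [ZMod.natCast_eq_natCast_iff, pow_eq_pow_iff_modEq, hn]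

/-- A matrix of order `18` in `SL(2, 17)`. -/
def nineMatrix : Matrix.SpecialLinearGroup (Fin 2) (ZMod 17) :=
  ⟨!![3, 16; 1, 0], by decide +kernel⟩

theorem nineMatrix_pow_nine :
    (nineMatrix : Matrix (Fin 2) (Fin 2) (ZMod 17)) ^ 9 = !![16, 0; 0, 16] := by decide +kernel

theorem nineMatrix_pow_three :
    (nineMatrix : Matrix (Fin 2) (Fin 2) (ZMod 17)) ^ 3 = !![4, 9; 8, 14] := by decide +kernel

theorem nine_comm (A : Matrix (Fin 2) (Fin 2) (ZMod 17)) :
    A * !![16, 0; 0, 16] = !![16, 0; 0, 16] * A := by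
  ext i j
  fin_cases i <;> fin_cases j <;> simp [Matrix.mul_apply, Fin.sum_univ_two] <;> ring

theorem three_not_comm :
    (!![1, 1; 0, 1] : Matrix (Fin 2) (Fin 2) (ZMod 17)) * !![4, 9; 8, 14] ≠ !![4, 9; 8, 14] * !![1, 1; 0, 1] := by
  decide +kernel

/-- A transvection in `SL(2, 17)`. -/
def transvection : Matrix.SpecialLinearGroup (Fin 2) (ZMod 17) :=
  ⟨!![1, 1; 0, 1], by decide +kernel⟩

theorem coe_nine :
    ((nineMatrix ^ 9 : Matrix.SpecialLinearGroup (Fin 2) (ZMod 17)) : Matrix (Fin 2) (Fin 2) (ZMod 17)) = !![16, 0; 0, 16] :=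
  (Matrix.SpecialLinearGroup.coe_pow _ _).trans nineMatrix_pow_nine

theorem coe_three :
    ((nineMatrix ^ 3 : Matrix.SpecialLinearGroup (Fin 2) (ZMod 17)) : Matrix (Fin 2) (Fin 2) (ZMod 17)) = !![4, 9; 8, 14] :=
  (Matrix.SpecialLinearGroup.coe_pow _ _).trans nineMatrix_pow_three

theorem nine_central (A : Matrix.SpecialLinearGroup (Fin 2) (ZMod 17)) :
    A * nineMatrix ^ 9 = nineMatrix ^ 9 * A := by
  exact Subtype.ext (((Matrix.SpecialLinearGroup.coe_mul _ _).trans
    ((congrArg _ coe_nine).trans ((nine_comm _).trans (congrArg (· * (A : Matrix (Fin 2) (Fin 2) (ZMod 17))) coe_nine.symm)))).trans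
      (Matrix.SpecialLinearGroup.coe_mul _ _).symm)

theorem transvection_not_comm : transvection * nineMatrix ^ 3 ≠ nineMatrix ^ 3 * transvection := by
  intro h
  have h2 : (transvection : Matrix (Fin 2) (Fin 2) (ZMod 17)) *
      ((nineMatrix ^ 3 : Matrix.SpecialLinearGroup (Fin 2) (ZMod 17)) : Matrix (Fin 2) (Fin 2) (ZMod 17)) =
      ((nineMatrix ^ 3 : Matrix.SpecialLinearGroup (Fin 2) (ZMod 17)) : Matrix (Fin 2) (Fin 2) (ZMod 17)) *
        (transvection : Matrix (Fin 2) (Fin 2) (ZMod 17)) :=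
    congrArg (fun A : Matrix.SpecialLinearGroup (Fin 2) (ZMod 17) => (A : Matrix (Fin 2) (Fin 2) (ZMod 17))) h
  rw [coe_three] at h2
  exact three_not_comm h2

theorem psl_nine : ∃ a : Matrix.ProjectiveSpecialLinearGroup (Fin 2) (ZMod 17), orderOf a = 9 := by
  haveI : Fact (Nat.Prime 3) := ⟨Nat.prime_three⟩
  refine ⟨QuotientGroup.mk' (Subgroup.center (Matrix.SpecialLinearGroup (Fin 2) (ZMod 17))) nineMatrix,
    orderOf_eq_prime_pow (p := 3) (n := 1) ?_ ?_⟩
  · rw [pow_one, ← map_pow]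
    intro h
    exact transvection_not_comm (Subgroup.mem_center_iff.mp ((QuotientGroup.eq_one_iff _).mp h) transvection)
  · rw [show (3 : ℕ) ^ (1 + 1) = 9 from rfl, ← map_pow]
    exact (QuotientGroup.eq_one_iff _).mpr (Subgroup.mem_center_iff.mpr nine_central)

theorem pgl_nine : ∃ a : Matrix.ProjGenLinGroup (Fin 2) (ZMod 17), orderOf a = 9 := by
  haveI : Fact (Nat.Prime 17) := ⟨by norm_num⟩
  haveI : Fact (Nat.Prime 3) := ⟨Nat.prime_three⟩
  show ∃ a : GL (Fin 2) (ZMod 17) ⧸ Subgroup.center (GL (Fin 2) (ZMod 17)), orderOf a = 9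
  refine ⟨QuotientGroup.mk' (Subgroup.center (GL (Fin 2) (ZMod 17))) (Matrix.SpecialLinearGroup.toGL nineMatrix),
    orderOf_eq_prime_pow (p := 3) (n := 1) ?_ ?_⟩
  · rw [pow_one, ← map_pow]
    intro h
    have h1 := Subgroup.mem_center_iff.mp ((QuotientGroup.eq_one_iff _).mp h)
      (Matrix.SpecialLinearGroup.toGL transvection)
    rw [← map_pow, ← map_mul, ← map_mul] at h1
    have h2 := congrArg (fun A : GL (Fin 2) (ZMod 17) => (A : Matrix (Fin 2) (Fin 2) (ZMod 17))) h1
    exact transvection_not_comm (Subtype.coe_injective h2)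
  · rw [show (3 : ℕ) ^ (1 + 1) = 9 from rfl, ← map_pow]
    refine (QuotientGroup.eq_one_iff _).mpr (Subgroup.mem_center_iff.mpr fun A => ?_)
    rw [← map_pow]
    apply Units.ext
    rw [Units.val_mul, Units.val_mul]
    have e : ((Matrix.SpecialLinearGroup.toGL (nineMatrix ^ 9) : GL (Fin 2) (ZMod 17)) : Matrix (Fin 2) (Fin 2) (ZMod 17)) =
        !![16, 0; 0, 16] := coe_nine
    rw [e]
    exact nine_comm _

variable {α : Type*} [Fintype α] [DecidableEq α] (hα : Fintype.card α = 18)
  {H : Subgroup (Equiv.Perm α)}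

include hα in
/-- An element of order `17` fixes one point and is transitive on the others. -/
theorem seventeen {v : H} (hv : orderOf v = 17) {a : α} (ha : v • a = a) :
    (∀ c : α, v • c = c → c = a) ∧ ∀ c c' : α, c ≠ a → c' ≠ a → ∃ k : ℕ, v ^ k • c = c' := by
  set σ : Equiv.Perm α := (v : Equiv.Perm α) with hσ
  have ho : orderOf σ = 17 := by rw [hσ, Subgroup.orderOf_coe, hv]
  have hsub : σ.support ⊆ Finset.univ.erase a := fun c hc =>
    Finset.mem_erase.mpr ⟨fun e => Equiv.Perm.mem_support.mp hc (by subst e; exact ha), Finset.mem_univ c⟩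
  have hec : (Finset.univ.erase a).card = 17 := by
    rw [Finset.card_erase_of_mem (Finset.mem_univ a), Finset.card_univ, hα]
  have hle : σ.support.card ≤ 17 := hec ▸ Finset.card_le_card hsub
  have hcyc : σ.IsCycle := Equiv.Perm.isCycle_of_prime_order (by rw [ho]; norm_num) (by omega)
  have heq : σ.support = Finset.univ.erase a :=
    Finset.eq_of_subset_of_card_le hsub (by rw [hec, ← hcyc.orderOf, ho])
  have hmem : ∀ c, c ≠ a → σ c ≠ c := fun c hc => Equiv.Perm.mem_support.mp (by
    rw [heq]; exact Finset.mem_erase.mpr ⟨hc, Finset.mem_univ c⟩)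
  refine ⟨fun c hc => by_contra fun hne => hmem c hne hc, fun c c' hc hc' => ?_⟩
  obtain ⟨k, hk⟩ := hcyc.exists_pow_eq (hmem c hc) (hmem c' hc')
  exact ⟨k, by show ((v ^ k : H) : Equiv.Perm α) c = c'; rw [Subgroup.coe_pow]; exact hk⟩

variable [IsPretransitive H α] {x : α} {u : H} (hu : orderOf u = 17) (hux : u • x = x)
  (hnorm : ∀ g : H, g • x = x → ∃ k : ℕ, g * u * g⁻¹ = u ^ k)

include hα hu hux hnorm

omit [IsPretransitive H α] in
/-- An element fixing `x` and `y` is determined by its action on `u`. -/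
theorem eq_of_conj_eq {g g' : H} (hx : g • x = x) (hx' : g' • x = x) {y : α} (hy : y ≠ x) (hgy : g • y = y)
    (hgy' : g' • y = y) (he : g * u * g⁻¹ = g' * u * g'⁻¹) : g = g' := by
  set z : H := g'⁻¹ * g with hz
  have hzy : z • y = y := by rw [hz, mul_smul, hgy, inv_smul_eq_iff, hgy']
  have hzx : z • x = x := by rw [hz, mul_smul, hx, inv_smul_eq_iff, hx']
  have hcomm : Commute z u := by
    show z * u = u * z
    calc z * u = g'⁻¹ * (g * u * g⁻¹) * g := by rw [hz]; group
      _ = u * z := by rw [he, hz]; group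
  have hall : ∀ c : α, z • c = c := fun c => by
    by_cases hc : c = x
    · rw [hc, hzx]
    obtain ⟨k, hk⟩ := (seventeen hα hu hux).2 y c hy hc
    rw [← hk, smul_smul, (hcomm.pow_right k).eq, mul_smul, hzy]
  have h1 : z = 1 := Subtype.ext (Equiv.Perm.ext fun c => hall c)
  exact (inv_mul_eq_one.mp h1).symm

/-- Only the identity fixes three points. -/
theorem eq_one_of_three {g : H} {a b c : α} (hab : a ≠ b) (hac : a ≠ c) (hbc : b ≠ c) (ha : g • a = a)
    (hb : g • b = b) (hc : g • c = c) : g = 1 := by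
  haveI : Fact (Nat.Prime 17) := ⟨by norm_num⟩
  suffices key : ∀ (g : H) (y z : α), y ≠ x → z ≠ x → y ≠ z → g • x = x → g • y = y → g • z = z → g = 1 by
    obtain ⟨t, ht⟩ := exists_smul_eq H a x
    have hfix : ∀ d : α, g • d = d → (t * g * t⁻¹) • (t • d) = t • d := fun d hd => by
      rw [mul_smul, mul_smul, inv_smul_smul, hd]
    have h := key (t * g * t⁻¹) (t • b) (t • c) (fun e => hab (MulAction.injective t (ht.trans e.symm)))
      (fun e => hac (MulAction.injective t (ht.trans e.symm))) (fun e => hbc (MulAction.injective t e))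
      (by conv_lhs => rw [← ht]
          rw [hfix a ha, ht]) (hfix b hb) (hfix c hc)
    simpa [mul_inv_eq_one] using h
  intro g y z hy hz hyz hgx hgy hgz
  obtain ⟨k, hk⟩ := (seventeen hα hu hux).2 y z hy hz
  obtain ⟨m, hm⟩ := hnorm g hgx
  have h1 : u ^ (m * k) • y = u ^ k • y := by
    rw [hk, pow_mul, ← hm, conj_pow, mul_smul, mul_smul, inv_smul_eq_iff.mpr hgy.symm, hk, hgz]
  have h2 : u ^ (m * k) = u ^ k := by
    by_contra hne
    rw [pow_eq_iff_cast hu] at hne
    obtain ⟨r, hr⟩ : ∃ r : ℕ, (r : ZMod 17) = ((m * k : ℕ) : ZMod 17) - (k : ℕ) :=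
      ⟨_, ZMod.natCast_zmod_val _⟩
    have hr0 : (r : ZMod 17) ≠ 0 := by rw [hr]; exact sub_ne_zero.mpr hne
    have e1 : u ^ (m * k) = u ^ k * u ^ r := by
      rw [← pow_add, pow_eq_iff_cast hu, Nat.cast_add, hr]; ring
    have e2 : u ^ r • y = y := by
      rw [e1, mul_smul] at h1
      exact MulAction.injective _ h1
    have e3 : (u ^ r) ^ ((r : ZMod 17)⁻¹).val = u := by
      conv_rhs => rw [← pow_one u]
      rw [← pow_mul, pow_eq_iff_cast hu, Nat.cast_mul, ZMod.natCast_zmod_val, Nat.cast_one, mul_inv_cancel₀ hr0]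
    have e4 : ∀ j : ℕ, (u ^ r) ^ j • y = y := fun j => by
      induction j with
      | zero => rw [pow_zero, one_smul]
      | succ j ih => rw [pow_succ, mul_smul, e2, ih]
    have e5 : u • y = y := by
      conv_lhs => rw [← e3]
      exact e4 _
    exact hy ((seventeen hα hu hux).1 y e5)
  have hk0 : (k : ZMod 17) ≠ 0 := fun e => hyz (by
    have : u ^ k = u ^ 0 := (pow_eq_iff_cast hu _ _).mpr (by simpa using e)
    rw [← hk, this, pow_zero, one_smul])
  have hm1 : (m : ZMod 17) = 1 := by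
    rw [pow_eq_iff_cast hu, Nat.cast_mul] at h2
    exact mul_right_cancel₀ hk0 (h2.trans (one_mul _).symm)
  refine eq_of_conj_eq hα hu hux hnorm hgx (one_smul H x) hy hgy (one_smul H y) ?_
  rw [hm, one_mul, inv_one, mul_one]
  conv_rhs => rw [← pow_one u]
  rw [pow_eq_iff_cast hu, hm1, Nat.cast_one]

/-- The group is two-transitive. -/
theorem two_trans {a b a' b' : α} (hab : a ≠ b) (hab' : a' ≠ b') : ∃ g : H, g • a = a' ∧ g • b = b' := by
  obtain ⟨s, hs⟩ := exists_smul_eq H a x
  obtain ⟨t, ht⟩ := exists_smul_eq H a' x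
  obtain ⟨k, hk⟩ := (seventeen hα hu hux).2 (s • b) (t • b')
    (fun e => hab (MulAction.injective s (hs.trans e.symm)))
    (fun e => hab' (MulAction.injective t (ht.trans e.symm)))
  have hkx : u ^ k • x = x := by
    clear hk
    induction k with
    | zero => rw [pow_zero, one_smul]
    | succ k ih => rw [pow_succ, mul_smul, hux, ih]
  refine ⟨t⁻¹ * u ^ k * s, ?_, ?_⟩
  · rw [mul_smul, mul_smul, hs, hkx, inv_smul_eq_iff, ht]
  · rw [mul_smul, mul_smul, hk, inv_smul_smul]

/-- The two-point stabilizer has order at most `16`, and the orders of the group and of a point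
stabilizer. -/
theorem card_eqs {y : α} (hy : y ≠ x) :
    Nat.card ↥(stabilizer H x ⊓ stabilizer H y) < 17 ∧
      Nat.card (stabilizer H x) = 17 * Nat.card ↥(stabilizer H x ⊓ stabilizer H y) ∧
      Nat.card H = 18 * 17 * Nat.card ↥(stabilizer H x ⊓ stabilizer H y) := by
  set E := stabilizer H x ⊓ stabilizer H y with hE
  have hsx : Nat.card (stabilizer H x) = 17 * Nat.card E := by
    have h := (stabilizer (stabilizer H x) y).card_mul_index
    rw [index_stabilizer] at h
    have horb : orbit (stabilizer H x) y = ({x} : Set α)ᶜ := by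
      ext c
      simp only [Set.mem_compl_iff, Set.mem_singleton_iff]
      constructor
      · rintro ⟨⟨g, hg⟩, rfl⟩ e
        exact hy (MulAction.injective g (e.trans (mem_stabilizer_iff.mp hg).symm))
      · intro hc
        obtain ⟨g, hg1, hg2⟩ := two_trans hα hu hux hnorm hy.symm (Ne.symm hc)
        exact ⟨⟨g, mem_stabilizer_iff.mpr hg1⟩, hg2⟩
    have hst : Nat.card (stabilizer (stabilizer H x) y) = Nat.card E :=
      Nat.card_congr
        { toFun := fun g => ⟨g.1.1, g.1.2, mem_stabilizer_iff.mpr (mem_stabilizer_iff.mp g.2 : g.1 • y = y)⟩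
          invFun := fun g => ⟨⟨g.1, g.2.1⟩, mem_stabilizer_iff.mpr (mem_stabilizer_iff.mp g.2.2 : g.1 • y = y)⟩
          left_inv := fun _ => rfl
          right_inv := fun _ => rfl }
    rw [hst, horb, Set.ncard_compl, Set.ncard_singleton, Nat.card_eq_fintype_card (α := α), hα] at h
    rw [← h]; ring
  have hG : Nat.card H = 18 * 17 * Nat.card E := by
    have h := (stabilizer H x).card_mul_index
    rw [index_stabilizer_of_transitive, Nat.card_eq_fintype_card (α := α), hα, hsx] at h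
    rw [← h]; ring
  refine ⟨?_, hsx, hG⟩
  have hmap : ∀ g : E, ∃ k : ZMod 17, k ≠ 0 ∧ (g : H) * u * (g : H)⁻¹ = u ^ k.val := fun g => by
    obtain ⟨k, hk⟩ := hnorm g g.2.1
    refine ⟨k, fun e => ?_, ?_⟩
    · have h0 : u ^ k = u ^ 0 := (pow_eq_iff_cast hu _ _).mpr (by simpa using e)
      rw [h0, pow_zero, mul_inv_eq_one, mul_eq_left] at hk
      rw [hk, orderOf_one] at hu
      omega
    · rw [hk, pow_eq_iff_cast hu, ZMod.natCast_zmod_val]
  choose f hf0 hf using hmap
  have hinj : Function.Injective (fun g => (⟨f g, hf0 g⟩ : {k : ZMod 17 // k ≠ 0})) := fun g g' e => by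
    refine Subtype.ext (eq_of_conj_eq hα hu hux hnorm g.2.1 g'.2.1 hy g.2.2 g'.2.2 ?_)
    rw [hf, hf, show f g = f g' from congrArg Subtype.val e]
  have := Nat.card_le_card_of_injective _ hinj
  rw [Nat.card_eq_fintype_card (α := {k : ZMod 17 // k ≠ 0}), Fintype.card_subtype_compl, Fintype.card_subtype_eq,
    ZMod.card] at this
  omega

/-- The group is `PGL(2, 17)` or `PSL(2, 17)`. -/
theorem iso_cases {y : α} (hy : y ≠ x) :
    (Nat.card ↥(stabilizer H x ⊓ stabilizer H y) = 16 ∧ Nonempty (H ≃* Matrix.ProjGenLinGroup (Fin 2) (ZMod 17))) ∨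
      (Nat.card ↥(stabilizer H x ⊓ stabilizer H y) = 8 ∧
        Nonempty (H ≃* Matrix.ProjectiveSpecialLinearGroup (Fin 2) (ZMod 17))) := by
  obtain ⟨hd, -, hG⟩ := card_eqs hα hu hux hnorm hy
  rcases Cfsg.Agent.S0732.result (p := 17) (by norm_num) hα H hG hd with ⟨h, e⟩ | ⟨h, e⟩ | ⟨q, -, h, -⟩
  · exact Or.inl ⟨h, e⟩
  · exact Or.inr ⟨by omega, e⟩
  · exfalso
    rcases Nat.lt_or_ge q 5 with hq | hq
    · interval_cases q <;> omega
    · have := Nat.pow_le_pow_right (show 0 < 2 by norm_num) hq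
      omega

/-- There is an element of order `9`. -/
theorem exists_nine {y : α} (hy : y ≠ x) : ∃ h : H, orderOf h = 9 := by
  have key : ∀ {L : Type} [Group L] (a : L), orderOf a = 9 → Nonempty (H ≃* L) → ∃ h : H, orderOf h = 9 :=
    fun {L} _ a ha ⟨e⟩ => ⟨e.symm a, (e.symm.orderOf_eq a).trans ha⟩
  rcases iso_cases hα hu hux hnorm hy with ⟨-, e⟩ | ⟨-, e⟩
  · obtain ⟨a, ha⟩ := pgl_nine
    exact key a ha e
  · obtain ⟨a, ha⟩ := psl_nine
    exact key a ha e

end CfsgLib.SylowNumbers18
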