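import Cfsg.Agent.Lib.SylowCount
import Mathlib

/-!
Normal subgroups normalizing the Sylow subgroups of a group.
-/

set_option autoImplicit false
set_option linter.style.haveILetI false

namespace CfsgLib.SylowNumbers18

open MulAction

variable {G : Type*} [Group G] [Finite G]

/-- Isomorphic groups have equally many Sylow subgroups. -/
theorem card_sylow_congr {G' : Type*} [Group G'] [Finite G'] (e : G ≃* G') (p : ℕ) [Fact p.Prime] :
    Nat.card (Sylow p G) = Nat.card (Sylow p G') := by
  obtain ⟨P⟩ : Nonempty (Sylow p G) := inferInstance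
  have hs : Function.Surjective (e.toMonoidHom : G →* G') := e.surjective
  rw [P.card_eq_index_normalizer, (P.mapSurjective hs).card_eq_index_normalizer]
  show (Subgroup.normalizer ((P : Subgroup G) : Set G)).index =
    (Subgroup.normalizer (((P : Subgroup G).map e.toMonoidHom : Subgroup G') : Set G')).index
  rw [← Subgroup.map_equiv_normalizer_eq]
  exact (Subgroup.index_map_equiv _ e).symm

variable {p : ℕ} [Fact p.Prime]

/-- A normal subgroup normalizing every Sylow subgroup, if it does not increase their number. -/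
theorem le_normalizer_of_card_eq (M : Subgroup G) [M.Normal]
    (h : Nat.card (Sylow p G) = Nat.card (Sylow p (G ⧸ M))) (P : Sylow p G) :
    M ≤ Subgroup.normalizer ((P : Subgroup G) : Set G) := by
  have e := card_sylow_eq_mul_relIndex P M
  rw [← h] at e
  exact Subgroup.relIndex_eq_one.mp (Nat.eq_of_mul_eq_mul_left Nat.card_pos (by rw [← e, mul_one]))

/-- An element of prime power order normalizing a Sylow subgroup lies in it. -/
theorem mem_sylow_of_normalize (P : Sylow p G) {a : G} {Q : Subgroup G} (hQ : IsPGroup p Q) (haQ : a ∈ Q)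
    (ha : a ∈ Subgroup.normalizer ((P : Subgroup G) : Set G)) : a ∈ (P : Subgroup G) := by
  have hz : IsPGroup p (Subgroup.zpowers a) := hQ.to_le (Subgroup.zpowers_le.mpr haQ)
  have h := hz.inf_normalizer_sylow P
  have : a ∈ Subgroup.zpowers a ⊓ (P : Subgroup G) := h ▸ Subgroup.mem_inf.mpr ⟨Subgroup.mem_zpowers a, ha⟩
  exact this.2

/-- The intersection of such a normal subgroup with a Sylow subgroup is normal. -/
theorem inf_sylow_normal (M : Subgroup G) [hM : M.Normal]
    (h : ∀ P : Sylow p G, M ≤ Subgroup.normalizer ((P : Subgroup G) : Set G)) (P : Sylow p G) :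
    (M ⊓ (P : Subgroup G)).Normal := by
  refine ⟨fun a ha g => ?_⟩
  have hm : g * a * g⁻¹ ∈ M := hM.conj_mem a ha.1 g
  refine ⟨hm, mem_sylow_of_normalize P (g • P).2 ?_ (h P hm)⟩
  show g * a * g⁻¹ ∈ ((g • P : Sylow p G) : Subgroup G)
  rw [Sylow.coe_subgroup_smul]
  exact Subgroup.mem_map.mpr ⟨a, ha.2, rfl⟩

/-- A nontrivial normal subgroup of a finite `p`-group meets the center. -/
theorem exists_central {A : Subgroup G} [hA : A.Normal] (P : Sylow p G) (hAP : A ≤ (P : Subgroup G)) (hne : A ≠ ⊥) :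
    ∃ z ∈ A, z ≠ 1 ∧ ∀ v ∈ (P : Subgroup G), v * z = z * v := by
  letI : MulAction P A :=
    { smul := fun v a => ⟨(v : G) * a * (v : G)⁻¹, hA.conj_mem a a.2 v⟩
      one_smul := fun a => Subtype.ext (by show ((1 : P) : G) * a * ((1 : P) : G)⁻¹ = a; simp)
      mul_smul := fun v w a => Subtype.ext (by
        show ((v * w : P) : G) * a * ((v * w : P) : G)⁻¹ = v * (w * a * (w : G)⁻¹) * (v : G)⁻¹
        simp [mul_assoc]) }
  have hdvd : p ∣ Nat.card A := by
    obtain ⟨k, hk⟩ := (P.2.to_le hAP).exists_card_eq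
    rcases Nat.eq_zero_or_pos k with rfl | hk0
    · exact absurd (Subgroup.card_eq_one.mp (by simpa using hk)) hne
    · rw [hk]; exact dvd_pow_self p hk0.ne'
  have hone : (1 : A) ∈ fixedPoints P A := fun v => Subtype.ext (by show (v : G) * 1 * (v : G)⁻¹ = 1; simp)
  obtain ⟨z, hz, hz1⟩ := P.2.exists_fixed_point_of_prime_dvd_card_of_fixed_point A hdvd hone
  refine ⟨z, z.2, fun e => hz1 (Subtype.ext e.symm), fun v hv => ?_⟩
  have := congrArg Subtype.val (hz ⟨v, hv⟩)
  change v * z * v⁻¹ = z at this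
  exact mul_inv_eq_iff_eq_mul.mp this

/-- An element of a normal `p`-subgroup normalizing a Sylow `q`-subgroup centralizes it. -/
theorem commute_sylow {q : ℕ} [Fact q.Prime] (hpq : p ≠ q) {A : Subgroup G} [hA : A.Normal] (hAp : IsPGroup p A)
    (Q : Sylow q G) {a : G} (ha : a ∈ A) (haN : a ∈ Subgroup.normalizer ((Q : Subgroup G) : Set G))
    {v : G} (hv : v ∈ (Q : Subgroup G)) : v * a = a * v :=
  (commute_of_mem_normalizer Q A (disjoint_iff.mp (IsPGroup.disjoint_of_ne q p hpq.symm _ _ Q.2 hAp)) ha haN hv).symm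

/-- The number of Sylow `r`-subgroups is not divisible by `p`, if `p` is not `1` modulo `r`
and a normal subgroup containing every Sylow `r`-subgroup normalizes every Sylow `p`-subgroup. -/
theorem not_dvd_card_sylow {r : ℕ} [Fact r.Prime] (K : Subgroup G) [hK : K.Normal]
    (hKp : ∀ P : Sylow p G, K ≤ Subgroup.normalizer ((P : Subgroup G) : Set G))
    (hr : ¬ r ∣ Nat.card (G ⧸ K)) (hp2 : ¬ p ^ 2 ∣ Nat.card (Sylow r G)) (hmod : ¬ p ≡ 1 [MOD r]) :
    ¬ p ∣ Nat.card (Sylow r G) := by
  intro hdvd
  obtain ⟨R⟩ : Nonempty (Sylow r G) := inferInstance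
  obtain ⟨P⟩ : Nonempty (Sylow p G) := inferInstance
  haveI := inf_sylow_normal K hKp P
  set A := K ⊓ (P : Subgroup G) with hA
  set N := Subgroup.normalizer ((R : Subgroup G) : Set G) with hN
  have hn : Nat.card (Sylow r G) = N.index := R.card_eq_index_normalizer
  -- `n = |K : N ∩ K|`
  have hnK : Nat.card (Sylow r G) = N.relIndex K := by
    rw [card_sylow_eq_mul_relIndex R K]
    obtain ⟨S⟩ : Nonempty (Sylow r (G ⧸ K)) := inferInstance
    have hS : (S : Subgroup (G ⧸ K)) = ⊥ := by
      obtain ⟨k, hk⟩ := S.2.exists_card_eq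
      rcases Nat.eq_zero_or_pos k with rfl | hk0
      · exact Subgroup.card_eq_one.mp (by simpa using hk)
      · exact absurd ((hk ▸ dvd_pow_self r hk0.ne' : r ∣ Nat.card S).trans (Subgroup.card_subgroup_dvd_card _)) hr
    have : Nat.card (Sylow r (G ⧸ K)) = 1 := by
      rw [S.card_eq_index_normalizer, Subgroup.index_eq_one]
      show Subgroup.normalizer ((S : Subgroup (G ⧸ K)) : Set (G ⧸ K)) = ⊤
      rw [hS, Subgroup.normalizer_eq_top_iff]
      infer_instance
    rw [this, one_mul]
  -- the orbit of `R` under `A`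
  have hj : N.relIndex A = (orbit A R).ncard := by
    rw [← MulAction.index_stabilizer, Subgroup.relIndex]
    congr 1
    ext a
    rw [Subgroup.mem_subgroupOf, mem_stabilizer_iff]
    exact Sylow.smul_eq_iff_mem_normalizer.symm
  obtain ⟨i, hi⟩ : ∃ i, N.relIndex A = p ^ i := by
    obtain ⟨k, hk⟩ := (P.2.to_le (inf_le_right : A ≤ _)).exists_card_eq
    have h1 : N.relIndex A ∣ p ^ k := hk ▸ (Subgroup.index_dvd_card _)
    obtain ⟨i, -, hi⟩ := (Nat.dvd_prime_pow Fact.out).mp h1
    exact ⟨i, hi⟩
  have hdvdn : N.relIndex A ∣ Nat.card (Sylow r G) := by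
    rw [hn, ← relIndex_sup_normal_eq N A]
    exact Subgroup.relIndex_dvd_index_of_le le_sup_left
  rcases i with _ | _ | i
  · -- `A` normalizes `R`
    have hAN : A ≤ N := Subgroup.relIndex_eq_one.mp (by rw [hi, pow_zero])
    have h1 : N.relIndex K ∣ A.relIndex K := Subgroup.relIndex_dvd_of_le_left _ hAN
    have h2 : A.relIndex K = (P : Subgroup G).relIndex K := by
      rw [hA, Subgroup.inf_relIndex_left]
    have h3 : (P : Subgroup G).relIndex K ∣ (P : Subgroup G).index := by
      rw [← relIndex_sup_normal_eq (P : Subgroup G) K]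
      exact Subgroup.relIndex_dvd_index_of_le le_sup_left
    exact P.not_dvd_index (hdvd.trans (hnK ▸ h1.trans (h2 ▸ h3)))
  · -- the orbit has `p` elements
    let O : SubMulAction (R : Subgroup G) (Sylow r G) :=
      { carrier := orbit A R
        smul_mem' := by
          rintro c _ ⟨a, rfl⟩
          refine ⟨⟨(c : G) * a * (c : G)⁻¹, (inferInstance : A.Normal).conj_mem a a.2 c⟩, ?_⟩
          show ((c : G) * a * (c : G)⁻¹) • R = (c : G) • (a : G) • R
          rw [mul_smul, mul_smul]
          congr 2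
          rw [inv_smul_eq_iff]
          exact (Sylow.smul_eq_iff_mem_normalizer.mpr (Subgroup.le_normalizer c.2)).symm }
    have h := R.2.card_modEq_card_fixedPoints O
    have hO : Nat.card O = p := by
      rw [show Nat.card O = (orbit A R).ncard from Nat.card_coe_set_eq _, ← hj, hi, pow_one]
    have hfix : fixedPoints (R : Subgroup G) O = {(⟨R, mem_orbit_self R⟩ : O)} := by
      ext ⟨S, hS⟩
      refine ⟨fun hc => ?_, fun hc c => ?_⟩
      · have hle : (R : Subgroup G) ≤ (S : Subgroup G) :=
          R.2.sylow_mem_fixedPoints_iff.mp fun c => congrArg Subtype.val (hc c)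
        exact Subtype.ext (Sylow.ext (R.3 S.2 hle))
      · rw [Set.mem_singleton_iff] at hc
        rw [hc]
        exact Subtype.ext (Sylow.smul_eq_iff_mem_normalizer.mpr (Subgroup.le_normalizer c.2))
    rw [hO, hfix, Nat.card_coe_set_eq, Set.ncard_singleton] at h
    exact hmod h
  · exact hp2 ((pow_dvd_pow p (by omega : 2 ≤ i + 2)).trans (hi ▸ hdvdn))

end CfsgLib.SylowNumbers18
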