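import Cfsg.Agent.Lib.SylowNumbers18.Image

/-!
The Sylow numbers of the transitive groups of degree `18`.
-/

set_option autoImplicit false
set_option linter.style.haveILetI false
set_option linter.unusedSectionVars false

namespace CfsgLib.SylowNumbers18

open MulAction
open scoped Pointwise

/-- A subgroup of full Sylow order, up to conjugation. -/
theorem exists_conj_le {G : Type*} [Group G] [Finite G] {p : ℕ} [Fact p.Prime] (W : Sylow p G) {U : Subgroup G}
    (hU : IsPGroup p U) : ∃ g : G, ∀ v ∈ U, g * v * g⁻¹ ∈ (W : Subgroup G) := by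
  obtain ⟨P, hP⟩ := hU.exists_le_sylow
  obtain ⟨g, hg⟩ := MulAction.exists_smul_eq G P W
  refine ⟨g, fun v hv => ?_⟩
  rw [← hg, Sylow.coe_subgroup_smul]
  exact Subgroup.mem_map.mpr ⟨v, hP hv, rfl⟩

variable {α : Type*} [Fintype α] [DecidableEq α] (hα : Fintype.card α = 18)
  {H : Subgroup (Equiv.Perm α)} [IsPretransitive H α] {x : α} {u : H} (hu : orderOf u = 17) (hux : u • x = x)
  (hnorm : ∀ g : H, g • x = x → ∃ k : ℕ, g * u * g⁻¹ = u ^ k)

include hα hu hux hnorm

/-- The order of the two-point stabilizer. -/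
theorem d_cases {y : α} (hy : y ≠ x) :
    Nat.card ↥(stabilizer H x ⊓ stabilizer H y) = 8 ∨ Nat.card ↥(stabilizer H x ⊓ stabilizer H y) = 16 := by
  rcases iso_cases hα hu hux hnorm hy with h | h
  · exact Or.inr h.1
  · exact Or.inl h.1

/-- There are `18` Sylow `17`-subgroups. -/
theorem card_sylow_seventeen : Nat.card (Sylow 17 H) = 18 := by
  haveI : Fact (Nat.Prime 17) := ⟨by norm_num⟩
  haveI : Nontrivial α := Fintype.one_lt_card_iff_nontrivial.mp (by omega)
  obtain ⟨y, hy⟩ := exists_ne x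
  obtain ⟨-, hsx, hG⟩ := card_eqs hα hu hux hnorm hy
  have hd := d_cases hα hu hux hnorm hy
  have hzc : Nat.card (Subgroup.zpowers u) = 17 := by rw [Nat.card_zpowers, hu]
  obtain ⟨P, hP⟩ := (IsPGroup.of_card (p := 17) (n := 1) (by rw [hzc, pow_one])).exists_le_sylow (P := Subgroup.zpowers u)
  have hPc : Nat.card P = 17 ^ 1 := SmallOrder.card_sylow_eq P (by rw [hG]; exact dvd_mul_of_dvd_left (by norm_num) _)
    (by rw [hG]; rcases hd with h | h <;> rw [h] <;> norm_num)
  have hPe : (P : Subgroup H) = Subgroup.zpowers u :=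
    (Subgroup.eq_of_le_of_card_ge hP (by rw [hzc]; exact le_of_eq hPc)).symm
  have hN : Subgroup.normalizer ((P : Subgroup H) : Set H) = stabilizer H x := by
    rw [hPe]
    ext g
    rw [mem_stabilizer_iff]
    constructor
    · intro hg
      have hm : g⁻¹ * u * g ∈ Subgroup.zpowers u := by
        have := (Subgroup.mem_normalizer_iff.mp (inv_mem hg) u).mp (Subgroup.mem_zpowers u)
        rwa [inv_inv] at this
      have hfix : (g⁻¹ * u * g) • x = x :=
        mem_stabilizer_iff.mp ((Subgroup.zpowers_le.mpr (mem_stabilizer_iff.mpr hux)) hm)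
      refine (seventeen hα hu hux).1 _ ?_
      have h := congrArg (fun c => g • c) hfix
      simpa [mul_smul] using h
    · intro hg
      rw [Subgroup.mem_normalizer_iff]
      have key : ∀ g : H, g • x = x → ∀ v ∈ Subgroup.zpowers u, g * v * g⁻¹ ∈ Subgroup.zpowers u := by
        rintro g hg v ⟨j, rfl⟩
        obtain ⟨k, hk⟩ := hnorm g hg
        refine ⟨k * j, ?_⟩
        show u ^ ((k : ℤ) * j) = g * u ^ j * g⁻¹
        rw [← conj_zpow, hk, zpow_mul, zpow_natCast]
      refine fun v => ⟨key g hg v, fun h => ?_⟩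
      have := key g⁻¹ (by rw [inv_smul_eq_iff, hg]) _ h
      rwa [show g⁻¹ * (g * v * g⁻¹) * g⁻¹⁻¹ = v by group] at this
  rw [P.card_eq_index_normalizer]
  show (Subgroup.normalizer ((P : Subgroup H) : Set H)).index = 18
  rw [hN, index_stabilizer_of_transitive, Nat.card_eq_fintype_card, hα]

/-- A subgroup of the stabilizer of a pair all whose elements square to `1` has order at most `4`. -/
theorem card_le_four {y : α} (hy : y ≠ x) {U : Subgroup H}
    (hU : U ≤ stabilizer H ({x, y} : Set α)) (hsq : ∀ v ∈ U, v * v = 1) : Nat.card U ≤ 4 := by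
  haveI : Fact (Nat.Prime 17) := ⟨by norm_num⟩
  have hpair : ∀ v ∈ U, v • x = x ∧ v • y = y ∨ v • x = y ∧ v • y = x := fun v hv => by
    have h := mem_stabilizer_iff.mp (hU hv)
    rw [Set.smul_set_insert, Set.smul_set_singleton, Set.pair_eq_pair_iff] at h
    exact h
  have h := (stabilizer U x).card_mul_index
  rw [index_stabilizer] at h
  have ho : (orbit U x).ncard ≤ 2 := by
    refine le_trans (Set.ncard_le_ncard (t := {x, y}) ?_ (Set.toFinite _)) ?_
    · rintro _ ⟨⟨v, hv⟩, rfl⟩
      rcases hpair v hv with h | h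
      · exact Or.inl h.1
      · exact Or.inr h.1
    · exact le_of_eq (Set.ncard_pair hy.symm)
  have hs : Nat.card (stabilizer U x) ≤ 2 := by
    have hval : ∀ v : stabilizer U x, ((v : U) : H) * u * ((v : U) : H)⁻¹ = u ∨
        ((v : U) : H) * u * ((v : U) : H)⁻¹ = u⁻¹ := fun v => by
      have hvx : ((v : U) : H) • x = x := mem_stabilizer_iff.mp v.2
      obtain ⟨k, hk⟩ := hnorm _ hvx
      have h2 := conj_pow_eq hk 2
      rw [sq, hsq _ (v : U).2, one_mul, inv_one, mul_one] at h2
      conv_lhs at h2 => rw [← pow_one u]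
      rw [pow_eq_iff_cast hu, Nat.cast_one, Nat.cast_pow] at h2
      rcases mul_self_eq_one_iff.mp (show (k : ZMod 17) * k = 1 by rw [← sq]; exact h2.symm) with e | e
      · left
        rw [hk]
        conv_rhs => rw [← pow_one u]
        rw [pow_eq_iff_cast hu, e, Nat.cast_one]
      · right
        rw [hk, eq_inv_iff_mul_eq_one, ← pow_succ, ← pow_zero u, pow_eq_iff_cast hu, Nat.cast_succ, e,
          neg_add_cancel, Nat.cast_zero]
    have hinj : Function.Injective (fun v : stabilizer U x =>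
        decide (((v : U) : H) * u * ((v : U) : H)⁻¹ = u)) := fun v w e => by
      have hvx : ((v : U) : H) • x = x := mem_stabilizer_iff.mp v.2
      have hwx : ((w : U) : H) • x = x := mem_stabilizer_iff.mp w.2
      have hvy : ∀ z : U, (z : H) • x = x → (z : H) • y = y := fun z hz => by
        rcases hpair z z.2 with h | h
        · exact h.2
        · exact absurd (h.1.symm.trans hz) hy
      refine Subtype.ext (Subtype.ext (eq_of_conj_eq hα hu hux hnorm hvx hwx hy (hvy _ hvx) (hvy _ hwx) ?_))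
      simp only [decide_eq_decide] at e
      rcases hval v with h1 | h1 <;> rcases hval w with h2 | h2
      · rw [h1, h2]
      · rw [h1, e.mp h1]
      · rw [h2, e.mpr h2]
      · rw [h1, h2]
    have := Nat.card_le_card_of_injective _ hinj
    simpa using this
  rw [← h]
  exact Nat.mul_le_mul hs ho

/-- The stabilizer of a pair of points is a Sylow `2`-subgroup. -/
theorem exists_sylow_pair {y : α} (hy : y ≠ x) :
    ∃ W : Sylow 2 H, (W : Subgroup H) = stabilizer H ({x, y} : Set α) ∧
      Nat.card W = 2 * Nat.card ↥(stabilizer H x ⊓ stabilizer H y) := by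
  set S := stabilizer H ({x, y} : Set α) with hS
  set E := stabilizer H x ⊓ stabilizer H y with hE
  have hmem : ∀ g : H, g ∈ S ↔ g • x = x ∧ g • y = y ∨ g • x = y ∧ g • y = x := fun g => by
    rw [hS, mem_stabilizer_iff, Set.smul_set_insert, Set.smul_set_singleton, Set.pair_eq_pair_iff]
  obtain ⟨-, -, hG⟩ := card_eqs hα hu hux hnorm hy
  obtain ⟨t, htx, hty⟩ := two_trans hα hu hux hnorm hy.symm hy
  have hEle : E ≤ S := fun g hg => (hmem g).mpr (Or.inl ⟨hg.1, hg.2⟩)
  have hSc : Nat.card S = 2 * Nat.card E := by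
    have h := (stabilizer S x).card_mul_index
    rw [index_stabilizer] at h
    have ho : orbit S x = {x, y} := by
      apply le_antisymm
      · rintro _ ⟨⟨g, hg⟩, rfl⟩
        rcases (hmem g).mp hg with h | h
        · exact Or.inl h.1
        · exact Or.inr h.1
      · rintro c (rfl | rfl)
        · exact mem_orbit_self _
        · exact ⟨⟨t, (hmem t).mpr (Or.inr ⟨htx, hty⟩)⟩, htx⟩
    have hst : Nat.card (stabilizer S x) = Nat.card E :=
      Nat.card_congr
        { toFun := fun g => ⟨g.1.1, by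
            refine ⟨mem_stabilizer_iff.mpr (mem_stabilizer_iff.mp g.2 : g.1.1 • x = x), ?_⟩
            rcases (hmem g.1.1).mp g.1.2 with h | h
            · exact mem_stabilizer_iff.mpr h.2
            · exact absurd (h.1.symm.trans (mem_stabilizer_iff.mp g.2 : g.1.1 • x = x)) hy⟩
          invFun := fun g => ⟨⟨g.1, hEle g.2⟩, mem_stabilizer_iff.mpr (mem_stabilizer_iff.mp g.2.1 : g.1 • x = x)⟩
          left_inv := fun _ => rfl
          right_inv := fun _ => rfl }
    rw [ho, Set.ncard_pair hy.symm, hst] at h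
    omega
  obtain ⟨k, hk, hk'⟩ : ∃ k, Nat.card S = 2 ^ k ∧ Nat.card H = 2 ^ k * 153 := by
    rcases d_cases hα hu hux hnorm hy with h | h
    · exact ⟨4, by rw [hSc, hE, h]; rfl, by rw [hG, h]; rfl⟩
    · exact ⟨5, by rw [hSc, hE, h]; rfl, by rw [hG, h]; rfl⟩
  obtain ⟨W, hW⟩ := (IsPGroup.of_card hk).exists_le_sylow (P := S)
  have hWc : Nat.card W = 2 ^ k := SmallOrder.card_sylow_eq W (by rw [hk']; exact dvd_mul_right _ _) (by
    rw [hk', pow_succ]
    intro h
    have := Nat.dvd_of_mul_dvd_mul_left (by positivity) h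
    omega)
  refine ⟨W, (Subgroup.eq_of_le_of_card_ge hW (le_of_eq (hWc.trans hk.symm))).symm, ?_⟩
  rw [← hSc, hk, hWc]

/-- There are `153` Sylow `2`-subgroups. -/
theorem card_sylow_two : Nat.card (Sylow 2 H) = 153 := by
  haveI : Nontrivial α := Fintype.one_lt_card_iff_nontrivial.mp (by omega)
  obtain ⟨y, hy⟩ := exists_ne x
  obtain ⟨-, -, hG⟩ := card_eqs hα hu hux hnorm hy
  obtain ⟨W, hWe, hWc⟩ := exists_sylow_pair hα hu hux hnorm hy
  set S := stabilizer H ({x, y} : Set α) with hS
  have hmem : ∀ g : H, g ∈ S ↔ g • x = x ∧ g • y = y ∨ g • x = y ∧ g • y = x := fun g => by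
    rw [hS, mem_stabilizer_iff, Set.smul_set_insert, Set.smul_set_singleton, Set.pair_eq_pair_iff]
  have hsqf : ∀ g ∈ S, (g * g) • x = x ∧ (g * g) • y = y := fun g hg => by
    rcases (hmem g).mp hg with ⟨h1, h2⟩ | ⟨h1, h2⟩ <;> simp [mul_smul, h1, h2]
  have hN : Subgroup.normalizer ((W : Subgroup H) : Set H) = (W : Subgroup H) := by
    refine le_antisymm (fun g hg => ?_) Subgroup.le_normalizer
    rw [hWe] at hg ⊢
    obtain ⟨v, hv, hv2⟩ : ∃ v ∈ S, v * v ≠ 1 := by
      by_contra hh
      push Not at hh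
      have h4 : Nat.card S ≤ 4 := card_le_four hα hu hux hnorm hy le_rfl hh
      have hWc' : Nat.card S = 2 * Nat.card ↥(stabilizer H x ⊓ stabilizer H y) := by rw [← hWe]; exact hWc
      rcases d_cases hα hu hux hnorm hy with h | h <;> omega
    obtain ⟨h1, h2⟩ := hsqf v hv
    have hv' : g⁻¹ * v * g ∈ S := by
      have := (Subgroup.mem_normalizer_iff.mp (inv_mem hg) v).mp hv
      rwa [inv_inv] at this
    obtain ⟨h3, h4⟩ := hsqf _ hv'
    have hkey : ∀ c : α, (g⁻¹ * v * g * (g⁻¹ * v * g)) • c = c → (v * v) • (g • c) = g • c := fun c hc => by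
      have := congrArg (fun c => g • c) hc
      simpa [mul_smul] using this
    have hfix : ∀ c : α, (v * v) • c = c → c = x ∨ c = y := fun c hc => by
      by_contra hh
      rw [not_or] at hh
      exact hv2 (eq_one_of_three hα hu hux hnorm hy.symm (Ne.symm hh.1) (Ne.symm hh.2) h1 h2 hc)
    rw [hmem]
    rcases hfix _ (hkey x h3) with e1 | e1 <;> rcases hfix _ (hkey y h4) with e2 | e2
    · exact absurd (MulAction.injective g (e2.trans e1.symm)) hy
    · exact Or.inl ⟨e1, e2⟩
    · exact Or.inr ⟨e1, e2⟩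
    · exact absurd (MulAction.injective g (e2.trans e1.symm)) hy
  have h : Nat.card (Subgroup.normalizer ((W : Subgroup H) : Set H)) * Nat.card (Sylow 2 H) = Nat.card H :=
    SmallOrder.card_normalizer_mul_card_sylow W
  rw [hN, hG, show Nat.card ↥(W : Subgroup H) = 2 * Nat.card ↥(stabilizer H x ⊓ stabilizer H y) from hWc] at h
  rcases d_cases hα hu hux hnorm hy with e | e <;> rw [e] at h <;> omega

/-- A number of Sylow `3`-subgroups dividing `136` equals `136`. -/
theorem card_sylow_three (hdiv : Nat.card (Sylow 3 H) ∣ 136) : Nat.card (Sylow 3 H) = 136 := by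
  haveI : Nontrivial α := Fintype.one_lt_card_iff_nontrivial.mp (by omega)
  haveI : Fact (Nat.Prime 17) := ⟨by norm_num⟩
  haveI : Fact (Nat.Prime 3) := ⟨Nat.prime_three⟩
  obtain ⟨y, hy⟩ := exists_ne x
  obtain ⟨-, hsx, hG⟩ := card_eqs hα hu hux hnorm hy
  have hd := d_cases hα hu hux hnorm hy
  obtain ⟨h, hh⟩ := exists_nine hα hu hux hnorm hy
  have hzc : Nat.card (Subgroup.zpowers h) = 3 ^ 2 := by rw [Nat.card_zpowers, hh]; rfl
  obtain ⟨P, hP⟩ := (IsPGroup.of_card hzc).exists_le_sylow (P := Subgroup.zpowers h)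
  have hPc : Nat.card P = 3 ^ 2 := SmallOrder.card_sylow_eq P (by rw [hG]; exact dvd_mul_of_dvd_left (by norm_num) _)
    (by rw [hG]; rcases hd with h | h <;> rw [h] <;> norm_num)
  have hPe : (P : Subgroup H) = Subgroup.zpowers h :=
    (Subgroup.eq_of_le_of_card_ge hP (by rw [hzc]; exact le_of_eq hPc)).symm
  have hmodn := card_sylow_modEq_one 3 H
  rw [Nat.ModEq] at hmodn
  have hNc : Nat.card (Subgroup.normalizer ((P : Subgroup H) : Set H)) * Nat.card (Sylow 3 H) = Nat.card H :=
    SmallOrder.card_normalizer_mul_card_sylow P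
  set N := Subgroup.normalizer ((P : Subgroup H) : Set H) with hN
  -- powers of `h` move every point
  have hmove : ∀ (j : ℕ) (c : α), (h ^ j) • c = c → h ^ j = 1 := fun j c hc => by
    have h1 : orderOf (h ^ j) ∣ 9 := hh ▸ orderOf_pow_dvd j
    obtain ⟨t, ht⟩ := exists_smul_eq H c x
    have h2 : orderOf (h ^ j) ∣ Nat.card (stabilizer H x) := by
      have hm : t * h ^ j * t⁻¹ ∈ stabilizer H x := by
        rw [mem_stabilizer_iff, ← ht, mul_smul, mul_smul, inv_smul_smul, hc]
      have h' : orderOf (t * h ^ j * t⁻¹) ∣ Nat.card (stabilizer H x) :=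
        (dvd_of_eq (Subgroup.orderOf_coe (⟨_, hm⟩ : stabilizer H x))).trans (orderOf_dvd_natCard _)
      rwa [show t * h ^ j * t⁻¹ = MulAut.conj t (h ^ j) from rfl, (MulAut.conj t).orderOf_eq] at h' 
    refine orderOf_eq_one_iff.mp (Nat.eq_one_of_dvd_coprimes ?_ h1 h2)
    rw [hsx]
    rcases hd with e | e <;> rw [e] <;> norm_num
  have hact : ∀ v ∈ N, ∃ k : ℕ, v * h * v⁻¹ = h ^ k := fun v hv => by
    rw [hN, hPe] at hv
    have := (Subgroup.mem_normalizer_iff.mp hv h).mp (Subgroup.mem_zpowers h)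
    rw [← mem_powers_iff_mem_zpowers] at this
    obtain ⟨k, hk⟩ := this
    exact ⟨k, hk.symm⟩
  by_contra hne
  have hcases : Nat.card (Sylow 3 H) ∈ ({1, 4, 34} : Finset ℕ) := by
    have h1 : Nat.card (Sylow 3 H) ∈ Nat.divisors 136 := Nat.mem_divisors.mpr ⟨hdiv, by norm_num⟩
    rw [show Nat.divisors 136 = {1, 2, 4, 8, 17, 34, 68, 136} by decide +kernel] at h1
    simp only [Finset.mem_insert, Finset.mem_singleton] at h1 ⊢
    omega
  rw [Finset.mem_insert, Finset.mem_insert, Finset.mem_singleton, ← or_assoc] at hcases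
  rcases hcases with hc | hc
  · -- `17` divides the normalizer
    have h17 : 17 ∣ Nat.card N := by
      have : 17 ∣ Nat.card N * Nat.card (Sylow 3 H) := by
        rw [hNc, hG]; exact dvd_mul_of_dvd_left (by norm_num) _
      rcases (Nat.Prime.dvd_mul (by norm_num)).mp this with e | e
      · exact e
      · rcases hc with c | c <;> rw [c] at e <;> norm_num at e
    obtain ⟨⟨v, hvN⟩, hv⟩ := exists_prime_orderOf_dvd_card' (G := N) 17 h17
    replace hv : orderOf v = 17 := (Subgroup.orderOf_coe (⟨v, hvN⟩ : N)).trans hv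
    obtain ⟨k, hk⟩ := hact v hvN
    have hk17 := conj_pow_eq hk 17
    rw [← hv, pow_orderOf_eq_one, one_mul, inv_one, mul_one, hv] at hk17
    conv_lhs at hk17 => rw [← pow_one h]
    rw [pow_eq_iff_cast hh, Nat.cast_one, Nat.cast_pow] at hk17
    have hk1 : (k : ZMod 9) = 1 := (by decide : ∀ k : ZMod 9, 1 = k ^ 17 → k = 1) _ hk17
    have hcomm : v * h = h * v := by
      have e : h ^ k = h := by
        conv_rhs => rw [← pow_one h]
        rw [pow_eq_iff_cast hh, hk1, Nat.cast_one]
      rw [e, mul_inv_eq_iff_eq_mul] at hk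
      exact hk
    obtain ⟨a, ha⟩ : ∃ a : α, v • a = a := by
      haveI : Fact (Nat.Prime 17) := ⟨by norm_num⟩
      obtain ⟨a, ha⟩ := Equiv.Perm.exists_fixed_point_of_prime (p := 17) (n := 1) (σ := (v : Equiv.Perm α))
        (by rw [hα]; norm_num) (by rw [pow_one, ← hv, ← Subgroup.coe_pow, pow_orderOf_eq_one, Subgroup.coe_one])
      exact ⟨a, ha⟩
    have hha : h • a = a := (seventeen hα hv ha).1 _ (by rw [smul_smul, hcomm, mul_smul, ha])
    have := hmove 1 a (by rw [pow_one]; exact hha)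
    rw [pow_one] at this
    rw [this, orderOf_one] at hh
    omega
  · -- the `2`-part of the normalizer is too big
    haveI : Fact (Nat.Prime 2) := ⟨Nat.prime_two⟩
    obtain ⟨m, hm, hmd⟩ : ∃ m, 2 ^ m = Nat.card ↥(stabilizer H x ⊓ stabilizer H y) ∧ m ≤ 4 := by
      rcases hd with e | e
      · exact ⟨3, e.symm, by norm_num⟩
      · exact ⟨4, e.symm, le_rfl⟩
    rw [hc, hG] at hNc
    have hNc' : Nat.card N = 9 * 2 ^ m := by rw [hm]; omega
    obtain ⟨U, hU⟩ := Sylow.exists_subgroup_card_pow_prime 2 (G := N) (n := m) (hNc' ▸ dvd_mul_left _ _)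
    obtain ⟨W, hWe, hWc⟩ := exists_sylow_pair hα hu hux hnorm hy
    obtain ⟨g, hg⟩ := exists_conj_le W ((IsPGroup.of_card hU).map N.subtype)
    let U' : Subgroup H := (U.map N.subtype).map (MulAut.conj g).toMonoidHom
    have hU'c : Nat.card U' = 2 ^ m := by
      rw [Subgroup.card_map_of_injective (MulAut.conj g).injective, Subgroup.card_map_of_injective N.subtype_injective, hU]
    have hU'le : U' ≤ stabilizer H ({x, y} : Set α) := by
      rintro _ ⟨v, hv, rfl⟩
      rw [← hWe]
      exact hg v hv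
    obtain ⟨w, hw, hw2⟩ : ∃ w ∈ U', w * w ≠ 1 := by
      by_contra hh'
      push Not at hh'
      have h4 := card_le_four hα hu hux hnorm hy hU'le hh'
      rw [hU'c] at h4
      rcases hd with e | e <;> omega
    obtain ⟨v₀, ⟨⟨v, hvN⟩, hvU, rfl⟩, rfl⟩ := hw
    have hpair := hU'le ⟨v, ⟨⟨v, hvN⟩, hvU, rfl⟩, rfl⟩
    change MulAut.conj g v ∈ _ at hpair
    change MulAut.conj g v * MulAut.conj g v ≠ 1 at hw2
    set w := MulAut.conj g v with hwdef
    rw [mem_stabilizer_iff, Set.smul_set_insert, Set.smul_set_singleton, Set.pair_eq_pair_iff] at hpair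
    have hfx : (w * w) • x = x := by rcases hpair with ⟨h1, h2⟩ | ⟨h1, h2⟩ <;> simp [mul_smul, h1, h2]
    have hfy : (w * w) • y = y := by rcases hpair with ⟨h1, h2⟩ | ⟨h1, h2⟩ <;> simp [mul_smul, h1, h2]
    obtain ⟨k, hk⟩ := hact v hvN
    have hv16 : v ^ 16 = 1 := by
      have h1 : (⟨⟨v, hvN⟩, hvU⟩ : U) ^ 2 ^ m = 1 := by rw [← hU]; exact pow_card_eq_one'
      have h2 : v ^ 2 ^ m = 1 := congrArg (fun z : U => ((z : N) : H)) h1
      obtain ⟨r, hr⟩ := (pow_dvd_pow 2 hmd : 2 ^ m ∣ 2 ^ 4)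
      rw [show (16 : ℕ) = 2 ^ 4 from rfl, hr, pow_mul, h2, one_pow]
    have hk16 := conj_pow_eq hk 16
    rw [hv16, one_mul, inv_one, mul_one] at hk16
    conv_lhs at hk16 => rw [← pow_one h]
    rw [pow_eq_iff_cast hh, Nat.cast_one, Nat.cast_pow] at hk16
    have hk2 := conj_pow_eq hk 2
    have hk2' : h ^ (k ^ 2) = h := by
      conv_rhs => rw [← pow_one h]
      rw [pow_eq_iff_cast hh, Nat.cast_one, Nat.cast_pow]
      exact (by decide : ∀ k : ZMod 9, 1 = k ^ 16 → k ^ 2 = 1) _ hk16
    rw [hk2', mul_inv_eq_iff_eq_mul, sq] at hk2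
    set h' := MulAut.conj g h with hh'
    have hcomm : (w * w) * h' = h' * (w * w) := by
      rw [hwdef, hh', ← map_mul, ← map_mul, ← map_mul, hk2]
    have hfix : ∀ c : α, (w * w) • c = c → c = x ∨ c = y := fun c hc => by
      by_contra hne'
      rw [not_or] at hne'
      exact hw2 (eq_one_of_three hα hu hux hnorm hy.symm (Ne.symm hne'.1) (Ne.symm hne'.2) hfx hfy hc)
    have hperm : ∀ c : α, (w * w) • c = c → h' • c = x ∨ h' • c = y := fun c hc =>
      hfix _ (by rw [smul_smul, hcomm, mul_smul, hc])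
    have hx2 : (h' * h') • x = x := by
      rw [mul_smul]
      rcases hperm x hfx with e1 | e1
      · rw [e1, e1]
      · rw [e1]
        rcases hperm y hfy with e2 | e2
        · exact e2
        · exact absurd (MulAction.injective h' (e2.trans e1.symm)) hy
    have hgx : (h ^ 2) • (g⁻¹ • x) = g⁻¹ • x := by
      have hconj : h' * h' = g * (h * h) * g⁻¹ := by rw [hh', ← map_mul]; rfl
      rw [hconj, mul_smul, mul_smul, ← eq_inv_smul_iff] at hx2
      rw [sq]; exact hx2
    have h21 := orderOf_dvd_of_pow_eq_one (hmove 2 _ hgx)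
    rw [hh] at h21
    omega

end CfsgLib.SylowNumbers18
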